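import Mathlib

/-!
# `f^! RHom(G₁, G₂) ≅ RHom(Lf^* G₁, f^! G₂)`: the abstract Yoneda argument (helper5)

Given `Rf : 𝒳 ⥤ 𝒴` restricting to full subcategories with a right adjoint `Sh` there, adjunctions
`TY ⊣ HY` on `𝒴` and `TX ⊣ HX` on `𝒳` and a natural "projection formula" isomorphism
`Rf (-) ⊗ ≅ Rf (- ⊗)` on the subcategory, the objects `Sh (HY G₂)` and `HX (Sh G₂)` are isomorphic
whenever both make sense in the subcategories.
-/

set_option autoImplicit false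

open CategoryTheory

namespace Groth.Agent.Lib.Helper5.ShriekHom

universe v₁ v₂ u₁ u₂

section Gen

variable {C : Type u₁} [Category.{v₁} C]

/-- homs in a full subcategory -/
def homEquivObj (P : ObjectProperty C) (A B : P.FullSubcategory) :
    (A ⟶ B) ≃ (A.obj ⟶ B.obj) where
  toFun f := f.hom
  invFun g := ObjectProperty.homMk g
  left_inv _ := rfl
  right_inv _ := rfl

/-- precomposition with an isomorphism -/
def precompEquiv {X X' : C} (α : X ≅ X') (Z : C) : (X ⟶ Z) ≃ (X' ⟶ Z) where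
  toFun f := α.inv ≫ f
  invFun g := α.hom ≫ g
  left_inv f := by simp
  right_inv g := by simp

/-- Yoneda: a natural family of bijections gives an isomorphism -/
def isoOfNatEquiv (A B : C) (E : ∀ T : C, (T ⟶ A) ≃ (T ⟶ B))
    (n : ∀ {T T' : C} (u : T' ⟶ T) (g : T ⟶ A), E T' (u ≫ g) = u ≫ E T g) : A ≅ B :=
  Yoneda.ext A B (fun {T} => E T) (fun {T} => (E T).symm)
    (fun f => (E _).symm_apply_apply f) (fun f => (E _).apply_symm_apply f) n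

end Gen

section Main

variable {𝒳 : Type u₁} [Category.{v₁} 𝒳] {𝒴 : Type u₂} [Category.{v₂} 𝒴]
  {PX : ObjectProperty 𝒳} {PY : ObjectProperty 𝒴}

/-- the restricted functor -/
abbrev RQ (Rf : 𝒳 ⥤ 𝒴) (hR : ∀ K, PX K → PY (Rf.obj K)) :
    PX.FullSubcategory ⥤ PY.FullSubcategory :=
  PY.lift (PX.ι ⋙ Rf) (fun K => hR K.obj K.property)

variable {Rf : 𝒳 ⥤ 𝒴} {hR : ∀ K, PX K → PY (Rf.obj K)}
  (Sh : PY.FullSubcategory ⥤ PX.FullSubcategory) (adj : RQ Rf hR ⊣ Sh)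
  {TY HY : 𝒴 ⥤ 𝒴} (adjY : TY ⊣ HY) {TX HX : 𝒳 ⥤ 𝒳} (adjX : TX ⊣ HX)
  (hTX : ∀ K, PX K → PX (TX.obj K))
  (ν : PX.ι ⋙ Rf ⋙ TY ≅ PX.ι ⋙ TX ⋙ Rf)
  (G₂ : PY.FullSubcategory) (hq : PY (HY.obj G₂.obj))

/-- tensoring on the subcategory -/
def tenT (T : PX.FullSubcategory) : PX.FullSubcategory :=
  ⟨TX.obj T.obj, hTX T.obj T.property⟩

/-- first half of the chain of bijections -/
def dT (T : PX.FullSubcategory) (g : T ⟶ Sh.obj ⟨HY.obj G₂.obj, hq⟩) :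
    Rf.obj (TX.obj T.obj) ⟶ G₂.obj :=
  (ν.app T).inv ≫ (adjY.homEquiv (Rf.obj T.obj) G₂.obj).symm
    ((adj.homEquiv T ⟨HY.obj G₂.obj, hq⟩).symm g).hom

theorem dT_nat {T T' : PX.FullSubcategory} (u : T' ⟶ T)
    (g : T ⟶ Sh.obj ⟨HY.obj G₂.obj, hq⟩) :
    dT Sh adj adjY ν G₂ hq T' (u ≫ g) =
      Rf.map (TX.map u.hom) ≫ dT Sh adj adjY ν G₂ hq T g := by
  have h2 : ((adj.homEquiv T' ⟨HY.obj G₂.obj, hq⟩).symm (u ≫ g)).hom =
      Rf.map u.hom ≫ ((adj.homEquiv T ⟨HY.obj G₂.obj, hq⟩).symm g).hom := by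
    rw [adj.homEquiv_naturality_left_symm]; rfl
  have h4 : (ν.app T').inv ≫ TY.map (Rf.map u.hom) =
      Rf.map (TX.map u.hom) ≫ (ν.app T).inv :=
    (ν.inv.naturality u).symm
  unfold dT
  rw [h2, adjY.homEquiv_naturality_left_symm, ← Category.assoc, h4, Category.assoc]

/-- second part of the chain -/
def fT (T : PX.FullSubcategory) (g : T ⟶ Sh.obj ⟨HY.obj G₂.obj, hq⟩) :
    TX.obj T.obj ⟶ (Sh.obj G₂).obj :=
  (adj.homEquiv (tenT hTX T) G₂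
    (ObjectProperty.homMk (dT Sh adj adjY ν G₂ hq T g) :
      (RQ Rf hR).obj (tenT hTX T) ⟶ G₂)).hom

theorem fT_nat {T T' : PX.FullSubcategory} (u : T' ⟶ T)
    (g : T ⟶ Sh.obj ⟨HY.obj G₂.obj, hq⟩) :
    fT Sh adj adjY hTX ν G₂ hq T' (u ≫ g) =
      TX.map u.hom ≫ fT Sh adj adjY hTX ν G₂ hq T g := by
  have h : (ObjectProperty.homMk (dT Sh adj adjY ν G₂ hq T' (u ≫ g)) :
        (RQ Rf hR).obj (tenT hTX T') ⟶ G₂) =
      (RQ Rf hR).map (ObjectProperty.homMk (TX.map u.hom) : tenT hTX T' ⟶ tenT hTX T) ≫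
        (ObjectProperty.homMk (dT Sh adj adjY ν G₂ hq T g) :
          (RQ Rf hR).obj (tenT hTX T) ⟶ G₂) := by
    apply ObjectProperty.hom_ext
    exact dT_nat Sh adj adjY ν G₂ hq u g
  unfold fT
  rw [h, adj.homEquiv_naturality_left]
  rfl

variable (hq' : PX (HX.obj (Sh.obj G₂).obj))

/-- the chain of bijections -/
def E (T : PX.FullSubcategory) :
    (T ⟶ Sh.obj ⟨HY.obj G₂.obj, hq⟩) ≃
      (T ⟶ (⟨HX.obj (Sh.obj G₂).obj, hq'⟩ : PX.FullSubcategory)) :=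
  ((adj.homEquiv T ⟨HY.obj G₂.obj, hq⟩).symm).trans <|
  (homEquivObj PY ((RQ Rf hR).obj T) ⟨HY.obj G₂.obj, hq⟩).trans <|
  ((adjY.homEquiv (Rf.obj T.obj) G₂.obj).symm).trans <|
  (precompEquiv (ν.app T) G₂.obj).trans <|
  ((homEquivObj PY ((RQ Rf hR).obj (tenT hTX T)) G₂).symm).trans <|
  (adj.homEquiv (tenT hTX T) G₂).trans <|
  (homEquivObj PX (tenT hTX T) (Sh.obj G₂)).trans <|
  (adjX.homEquiv T.obj (Sh.obj G₂).obj).trans <|
  (homEquivObj PX T ⟨HX.obj (Sh.obj G₂).obj, hq'⟩).symm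

theorem E_hom (T : PX.FullSubcategory) (g : T ⟶ Sh.obj ⟨HY.obj G₂.obj, hq⟩) :
    (E Sh adj adjY adjX hTX ν G₂ hq hq' T g).hom =
      adjX.homEquiv T.obj (Sh.obj G₂).obj (fT Sh adj adjY hTX ν G₂ hq T g) := rfl

theorem E_natural {T T' : PX.FullSubcategory} (u : T' ⟶ T)
    (g : T ⟶ Sh.obj ⟨HY.obj G₂.obj, hq⟩) :
    E Sh adj adjY adjX hTX ν G₂ hq hq' T' (u ≫ g) =
      u ≫ E Sh adj adjY adjX hTX ν G₂ hq hq' T g := by
  apply ObjectProperty.hom_ext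
  rw [ObjectProperty.FullSubcategory.comp_hom, E_hom, E_hom, fT_nat,
    adjX.homEquiv_naturality_left]

include adj adjY adjX hTX ν hq' in
/-- **the abstract statement** -/
theorem nonempty_iso :
    Nonempty ((Sh.obj ⟨HY.obj G₂.obj, hq⟩).obj ≅ HX.obj (Sh.obj G₂).obj) :=
  ⟨PX.ι.mapIso (isoOfNatEquiv (Sh.obj ⟨HY.obj G₂.obj, hq⟩)
    (⟨HX.obj (Sh.obj G₂).obj, hq'⟩ : PX.FullSubcategory)
    (E Sh adj adjY adjX hTX ν G₂ hq hq')
    (fun u g => E_natural Sh adj adjY adjX hTX ν G₂ hq hq' u g))⟩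

end Main

end Groth.Agent.Lib.Helper5.ShriekHom
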