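import Mathlib
import Groth.Agent.Lib.Helper5.ShriekHom.Abstract

/-!
# Uniqueness of right adjoints on a full subcategory, partially defined (helper5)

`V ⊣ W` on a full subcategory `𝒬 ⊆ 𝒳`, `TX ⊣ HX` on `𝒳`, and `V ≅ TX` on `𝒬`.  Then `W ≅ HX` on
every full subcategory of `𝒬` on which `HX` takes values in `𝒬`.
-/

set_option autoImplicit false

open CategoryTheory

namespace Groth.Agent.Lib.Helper5.ShriekHom

universe v₁ u₁

section Gen

variable {C : Type u₁} [Category.{v₁} C]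

/-- Yoneda, with explicit morphisms -/
def isoOfNatEquiv' (A B : C) (E : ∀ T : C, (T ⟶ A) ≃ (T ⟶ B))
    (n : ∀ {T T' : C} (u : T' ⟶ T) (g : T ⟶ A), E T' (u ≫ g) = u ≫ E T g) : A ≅ B where
  hom := E A (𝟙 A)
  inv := (E B).symm (𝟙 B)
  hom_inv_id := by
    have ns : ∀ {T T' : C} (u : T' ⟶ T) (h : T ⟶ B),
        (E T').symm (u ≫ h) = u ≫ (E T).symm h := by
      intro T T' u h
      apply (E T').injective
      rw [Equiv.apply_symm_apply, n, Equiv.apply_symm_apply]
    rw [← ns, Category.comp_id, Equiv.symm_apply_apply]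
  inv_hom_id := by
    rw [← n, Category.comp_id, Equiv.apply_symm_apply]

end Gen

section FunctorLevel

variable {𝒳 : Type u₁} [Category.{v₁} 𝒳] {PX : ObjectProperty 𝒳}
  (PB : ObjectProperty PX.FullSubcategory)
  {V W : PX.FullSubcategory ⥤ PX.FullSubcategory} (adjW : V ⊣ W)
  {TX HX : 𝒳 ⥤ 𝒳} (adjX : TX ⊣ HX)
  (μ : V ⋙ PX.ι ≅ PX.ι ⋙ TX)
  (hB : ∀ G : PX.FullSubcategory, PB G → PX (HX.obj G.obj))

/-- the target object in the subcategory -/
def HG (G : PB.FullSubcategory) : PX.FullSubcategory :=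
  ⟨HX.obj G.obj.obj, hB G.obj G.property⟩

/-- the chain of bijections -/
def EW (G : PB.FullSubcategory) (T : PX.FullSubcategory) :
    (T ⟶ W.obj G.obj) ≃ (T ⟶ HG PB hB G) :=
  ((adjW.homEquiv T G.obj).symm).trans <|
  (homEquivObj PX (V.obj T) G.obj).trans <|
  (precompEquiv (μ.app T) G.obj.obj).trans <|
  (adjX.homEquiv T.obj G.obj.obj).trans <|
  (homEquivObj PX T (HG PB hB G)).symm

theorem EW_hom (G : PB.FullSubcategory) (T : PX.FullSubcategory) (g : T ⟶ W.obj G.obj) :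
    (EW PB adjW adjX μ hB G T g).hom =
      adjX.homEquiv T.obj G.obj.obj
        ((μ.app T).inv ≫ ((adjW.homEquiv T G.obj).symm g).hom) := rfl

theorem EW_natT (G : PB.FullSubcategory) {T T' : PX.FullSubcategory} (u : T' ⟶ T)
    (g : T ⟶ W.obj G.obj) :
    EW PB adjW adjX μ hB G T' (u ≫ g) = u ≫ EW PB adjW adjX μ hB G T g := by
  apply ObjectProperty.hom_ext
  have h2 : ((adjW.homEquiv T' G.obj).symm (u ≫ g)).hom =
      (V.map u).hom ≫ ((adjW.homEquiv T G.obj).symm g).hom := by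
    rw [adjW.homEquiv_naturality_left_symm]; rfl
  have h4 : (μ.app T').inv ≫ (V.map u).hom = TX.map u.hom ≫ (μ.app T).inv :=
    (μ.inv.naturality u).symm
  rw [ObjectProperty.FullSubcategory.comp_hom, EW_hom, EW_hom, h2, ← Category.assoc, h4,
    Category.assoc, adjX.homEquiv_naturality_left]
  rfl

theorem EW_natG {G G' : PB.FullSubcategory} (γ : G ⟶ G') (T : PX.FullSubcategory)
    (g : T ⟶ W.obj G.obj) :
    EW PB adjW adjX μ hB G' T (g ≫ W.map γ.hom) =
      EW PB adjW adjX μ hB G T g ≫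
        (ObjectProperty.homMk (HX.map γ.hom.hom) : HG PB hB G ⟶ HG PB hB G') := by
  apply ObjectProperty.hom_ext
  have h2 : ((adjW.homEquiv T G'.obj).symm (g ≫ W.map γ.hom)).hom =
      ((adjW.homEquiv T G.obj).symm g).hom ≫ γ.hom.hom := by
    rw [adjW.homEquiv_naturality_right_symm]; rfl
  rw [ObjectProperty.FullSubcategory.comp_hom, EW_hom, EW_hom, h2, ← Category.assoc,
    adjX.homEquiv_naturality_right]
  rfl

/-- the isomorphism at an object -/
def φ (G : PB.FullSubcategory) : W.obj G.obj ≅ HG PB hB G :=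
  isoOfNatEquiv' _ _ (EW PB adjW adjX μ hB G) (fun u g => EW_natT PB adjW adjX μ hB G u g)

theorem φ_nat {G G' : PB.FullSubcategory} (γ : G ⟶ G') :
    W.map γ.hom ≫ (φ PB adjW adjX μ hB G').hom =
      (φ PB adjW adjX μ hB G).hom ≫
        (ObjectProperty.homMk (HX.map γ.hom.hom) : HG PB hB G ⟶ HG PB hB G') := by
  show W.map γ.hom ≫ EW PB adjW adjX μ hB G' (W.obj G'.obj) (𝟙 _) =
    EW PB adjW adjX μ hB G (W.obj G.obj) (𝟙 _) ≫ _
  rw [← EW_natT, Category.comp_id, ← EW_natG, Category.id_comp]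

/-- **`W ≅ HX` where `HX` stays in the subcategory** -/
def natIso : PB.ι ⋙ W ⋙ PX.ι ≅ PB.ι ⋙ PX.ι ⋙ HX :=
  NatIso.ofComponents (fun G => PX.ι.mapIso (φ PB adjW adjX μ hB G))
    (fun {G G'} γ => by
      have h := congrArg (fun t => t.hom) (φ_nat PB adjW adjX μ hB γ)
      exact h)

end FunctorLevel

end Groth.Agent.Lib.Helper5.ShriekHom
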