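import Mathlib
import Groth.Agent.Lib.Helper5.ShriekHom.Abstract2

/-!
# Comparing a right adjoint on `D_QCoh` with a right adjoint on `D^+` (helper5)

`Rf : 𝒵 ⥤ 𝒳` restricts to `RQ : 𝒵_Q ⥤ 𝒳_Q` with a right adjoint `a`, and there is an adjunction
`RP ⊣ H` between the "bounded below" full subcategories `𝒵_B`, `𝒳_B` with `RP ≅ Rf` there.
If `a K` is bounded below and `H K` is in `𝒵_Q` for all bounded below `K ∈ 𝒳_Q`, then `a ≅ H` on
these objects.
-/

set_option autoImplicit false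

open CategoryTheory

namespace Groth.Agent.Lib.Helper5.ShriekHom

universe v₁ v₂ u₁ u₂

section PlusYoneda

variable {𝒵 : Type u₁} [Category.{v₁} 𝒵] {𝒳 : Type u₂} [Category.{v₂} 𝒳]
  {QZ BZ : ObjectProperty 𝒵} {QX BX : ObjectProperty 𝒳}
  {Rf : 𝒵 ⥤ 𝒳} {hR : ∀ K, QZ K → QX (Rf.obj K)}
  {a : QX.FullSubcategory ⥤ QZ.FullSubcategory} (adj : RQ Rf hR ⊣ a)
  {RP : BZ.FullSubcategory ⥤ BX.FullSubcategory} {H : BX.FullSubcategory ⥤ BZ.FullSubcategory}
  (adjP : RP ⊣ H) (θ : RP ⋙ BX.ι ≅ BZ.ι ⋙ Rf)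
  (PB : ObjectProperty QX.FullSubcategory) (hPB : ∀ K : QX.FullSubcategory, PB K → BX K.obj)

/-- the functor to the bounded below subcategory -/
abbrev jB : PB.FullSubcategory ⥤ BX.FullSubcategory :=
  BX.lift (PB.ι ⋙ QX.ι) (fun K => hPB K.obj K.property)

variable (hA : ∀ K : PB.FullSubcategory, BZ (a.obj K.obj).obj)
  (hH : ∀ K : PB.FullSubcategory, QZ (H.obj ((jB PB hPB).obj K)).obj)

variable (QZ BZ) in
/-- objects that are both in `Q` and bounded below -/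
def WP : ObjectProperty 𝒵 := fun M => QZ M ∧ BZ M

/-- the underlying object in `𝒵_Q` -/
abbrev TQ (T : (WP QZ BZ).FullSubcategory) : QZ.FullSubcategory := ⟨T.obj, T.property.1⟩

/-- the underlying object in `𝒵_B` -/
abbrev TB (T : (WP QZ BZ).FullSubcategory) : BZ.FullSubcategory := ⟨T.obj, T.property.2⟩

/-- `a K` in the subcategory -/
abbrev A1 (K : PB.FullSubcategory) : (WP QZ BZ).FullSubcategory :=
  ⟨(a.obj K.obj).obj, ⟨(a.obj K.obj).property, hA K⟩⟩

/-- `H K` in the subcategory -/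
abbrev A2 (K : PB.FullSubcategory) : (WP QZ BZ).FullSubcategory :=
  ⟨(H.obj ((jB PB hPB).obj K)).obj, ⟨hH K, (H.obj ((jB PB hPB).obj K)).property⟩⟩

/-- the chain of bijections -/
def EP (K : PB.FullSubcategory) (T : (WP QZ BZ).FullSubcategory) :
    (T ⟶ A1 PB hA K) ≃ (T ⟶ A2 PB hPB hH K) :=
  (homEquivObj (WP QZ BZ) T (A1 PB hA K)).trans <|
  ((homEquivObj QZ (TQ T) (a.obj K.obj)).symm).trans <|
  ((adj.homEquiv (TQ T) K.obj).symm).trans <|
  (homEquivObj QX ((RQ Rf hR).obj (TQ T)) K.obj).trans <|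
  (precompEquiv ((θ.app (TB T)).symm) K.obj.obj).trans <|
  ((homEquivObj BX (RP.obj (TB T)) ((jB PB hPB).obj K)).symm).trans <|
  (adjP.homEquiv (TB T) ((jB PB hPB).obj K)).trans <|
  (homEquivObj BZ (TB T) (H.obj ((jB PB hPB).obj K))).trans <|
  (homEquivObj (WP QZ BZ) T (A2 PB hPB hH K)).symm

/-- the middle morphism of the chain -/
def mP (K : PB.FullSubcategory) (T : (WP QZ BZ).FullSubcategory) (g : T ⟶ A1 PB hA K) :
    RP.obj (TB T) ⟶ (jB PB hPB).obj K :=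
  ObjectProperty.homMk ((θ.app (TB T)).hom ≫
    ((adj.homEquiv (TQ T) K.obj).symm
      (ObjectProperty.homMk g.hom : TQ T ⟶ a.obj K.obj)).hom)

theorem EP_hom (K : PB.FullSubcategory) (T : (WP QZ BZ).FullSubcategory)
    (g : T ⟶ A1 PB hA K) :
    (EP adj adjP θ PB hPB hA hH K T g).hom =
      (adjP.homEquiv (TB T) ((jB PB hPB).obj K) (mP adj θ PB hPB hA K T g)).hom := rfl

theorem mP_natT (K : PB.FullSubcategory) {T T' : (WP QZ BZ).FullSubcategory} (u : T' ⟶ T)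
    (g : T ⟶ A1 PB hA K) :
    mP adj θ PB hPB hA K T' (u ≫ g) =
      RP.map (ObjectProperty.homMk u.hom : TB T' ⟶ TB T) ≫ mP adj θ PB hPB hA K T g := by
  have h1 : (ObjectProperty.homMk (u ≫ g).hom : TQ T' ⟶ a.obj K.obj) =
      (ObjectProperty.homMk u.hom : TQ T' ⟶ TQ T) ≫
        (ObjectProperty.homMk g.hom : TQ T ⟶ a.obj K.obj) := rfl
  have h2 : ((adj.homEquiv (TQ T') K.obj).symm
        (ObjectProperty.homMk (u ≫ g).hom : TQ T' ⟶ a.obj K.obj)).hom =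
      Rf.map u.hom ≫ ((adj.homEquiv (TQ T) K.obj).symm
        (ObjectProperty.homMk g.hom : TQ T ⟶ a.obj K.obj)).hom := by
    rw [h1, adj.homEquiv_naturality_left_symm]; rfl
  have h3 : (θ.app (TB T')).hom ≫ Rf.map u.hom =
      (RP.map (ObjectProperty.homMk u.hom : TB T' ⟶ TB T)).hom ≫ (θ.app (TB T)).hom :=
    (θ.hom.naturality (ObjectProperty.homMk u.hom : TB T' ⟶ TB T)).symm
  apply ObjectProperty.hom_ext
  rw [ObjectProperty.FullSubcategory.comp_hom]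
  show (θ.app (TB T')).hom ≫ _ = (RP.map _).hom ≫ (θ.app (TB T)).hom ≫ _
  rw [h2]
  exact (Category.assoc _ _ _).symm.trans
    ((congrArg (fun t => t ≫ _) h3).trans (Category.assoc _ _ _))

theorem EP_natT (K : PB.FullSubcategory) {T T' : (WP QZ BZ).FullSubcategory} (u : T' ⟶ T)
    (g : T ⟶ A1 PB hA K) :
    EP adj adjP θ PB hPB hA hH K T' (u ≫ g) = u ≫ EP adj adjP θ PB hPB hA hH K T g := by
  apply ObjectProperty.hom_ext
  rw [ObjectProperty.FullSubcategory.comp_hom, EP_hom, EP_hom, mP_natT,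
    adjP.homEquiv_naturality_left]
  rfl

/-- the map `a K ⟶ a K'` in the subcategory -/
def A1map {K K' : PB.FullSubcategory} (γ : K ⟶ K') : A1 PB hA K ⟶ A1 PB hA K' :=
  ObjectProperty.homMk (a.map γ.hom).hom

/-- the map `H K ⟶ H K'` in the subcategory -/
def A2map {K K' : PB.FullSubcategory} (γ : K ⟶ K') : A2 PB hPB hH K ⟶ A2 PB hPB hH K' :=
  ObjectProperty.homMk (H.map ((jB PB hPB).map γ)).hom

theorem mP_natK {K K' : PB.FullSubcategory} (γ : K ⟶ K') (T : (WP QZ BZ).FullSubcategory)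
    (g : T ⟶ A1 PB hA K) :
    mP adj θ PB hPB hA K' T (g ≫ A1map PB hA γ) =
      mP adj θ PB hPB hA K T g ≫ (jB PB hPB).map γ := by
  have h1 : (ObjectProperty.homMk (g ≫ A1map PB hA γ).hom : TQ T ⟶ a.obj K'.obj) =
      (ObjectProperty.homMk g.hom : TQ T ⟶ a.obj K.obj) ≫ a.map γ.hom := rfl
  have h2 : ((adj.homEquiv (TQ T) K'.obj).symm
        (ObjectProperty.homMk (g ≫ A1map PB hA γ).hom : TQ T ⟶ a.obj K'.obj)).hom =
      ((adj.homEquiv (TQ T) K.obj).symm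
        (ObjectProperty.homMk g.hom : TQ T ⟶ a.obj K.obj)).hom ≫ γ.hom.hom := by
    rw [h1, adj.homEquiv_naturality_right_symm]; rfl
  apply ObjectProperty.hom_ext
  rw [ObjectProperty.FullSubcategory.comp_hom]
  show (θ.app (TB T)).hom ≫ _ = ((θ.app (TB T)).hom ≫ _) ≫ γ.hom.hom
  rw [h2, Category.assoc]

theorem EP_natK {K K' : PB.FullSubcategory} (γ : K ⟶ K') (T : (WP QZ BZ).FullSubcategory)
    (g : T ⟶ A1 PB hA K) :
    EP adj adjP θ PB hPB hA hH K' T (g ≫ A1map PB hA γ) =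
      EP adj adjP θ PB hPB hA hH K T g ≫ A2map PB hPB hH γ := by
  apply ObjectProperty.hom_ext
  rw [ObjectProperty.FullSubcategory.comp_hom, EP_hom, EP_hom, mP_natK,
    adjP.homEquiv_naturality_right]
  rfl

/-- the isomorphism at an object -/
def φP (K : PB.FullSubcategory) : A1 PB hA K ≅ A2 PB hPB hH K :=
  isoOfNatEquiv' _ _ (EP adj adjP θ PB hPB hA hH K)
    (fun u g => EP_natT adj adjP θ PB hPB hA hH K u g)

theorem φP_nat {K K' : PB.FullSubcategory} (γ : K ⟶ K') :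
    A1map PB hA γ ≫ (φP adj adjP θ PB hPB hA hH K').hom =
      (φP adj adjP θ PB hPB hA hH K).hom ≫ A2map PB hPB hH γ := by
  show A1map PB hA γ ≫ EP adj adjP θ PB hPB hA hH K' (A1 PB hA K') (𝟙 _) =
    EP adj adjP θ PB hPB hA hH K (A1 PB hA K) (𝟙 _) ≫ _
  rw [← EP_natT, Category.comp_id, ← EP_natK, Category.id_comp]

/-- **`a ≅ H` on bounded below objects of `𝒳_Q`** -/
def natIsoP : PB.ι ⋙ a ⋙ QZ.ι ≅ jB PB hPB ⋙ H ⋙ BZ.ι :=
  NatIso.ofComponents (fun K => (WP QZ BZ).ι.mapIso (φP adj adjP θ PB hPB hA hH K))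
    (fun {K K'} γ => by
      have h := congrArg (fun t => t.hom) (φP_nat adj adjP θ PB hPB hA hH γ)
      exact h)

end PlusYoneda

end Groth.Agent.Lib.Helper5.ShriekHom
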