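import Mathlib
import Groth.Prelude.Def_Dual3
import Groth.Agent.Lib.Helper5.ShriekHom.PlusYoneda
import Groth.Agent.Lib.Helper5.ProjF.ClDer
import Groth.Agent.Lib.Helper5.BrownU.ShriekBound

/-!
# The right adjoint of `Ri_*` on `D_QCoh` for a closed immersion is `R Hom(O_Z, -)` (helper5)
-/

set_option autoImplicit false
set_option linter.unusedSectionVars false
set_option linter.unusedVariables false

universe w v u
open CategoryTheory CategoryTheory.Limits AlgebraicGeometry

namespace Groth.Agent.Lib.Helper5.ShriekHom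

section PlusIso

variable {A B : Type u} [Category.{v} A] [Category.{v} B]
  [Abelian A] [Abelian B] [HasDerivedCategory.{w} A] [HasDerivedCategory.{w} B]
  [EnoughInjectives A] (L : A ⥤ B)
  [L.Additive] [PreservesFiniteLimits L] [PreservesFiniteColimits L]

/-- an exact functor preserves quasi-isomorphisms of bounded below complexes -/
theorem inverts_plus : (HomotopyCategory.Plus.quasiIso A).IsInvertedBy
    (L.mapHomotopyCategoryPlus ⋙ DerivedCategory.Plus.Qh) := by
  intro X Y f hf
  refine Localization.inverts DerivedCategory.Plus.Qh (HomotopyCategory.Plus.quasiIso B) _ ?_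
  obtain ⟨X, rfl⟩ := HomotopyCategory.Plus.quotient_obj_surjective X
  obtain ⟨Y, rfl⟩ := HomotopyCategory.Plus.quotient_obj_surjective Y
  obtain ⟨f, rfl⟩ := (HomotopyCategory.Plus.quotient A).map_surjective f
  have hf' : QuasiIso f.hom := by
    have := hf
    rw [HomotopyCategory.Plus.quasiIso_iff] at this
    change HomotopyCategory.quasiIso A _ ((HomotopyCategory.quotient _ _).map f.hom) at this
    rwa [HomotopyCategory.quotient_map_mem_quasiIso_iff, HomologicalComplex.mem_quasiIso_iff] at this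
  rw [HomotopyCategory.Plus.quasiIso_iff]
  change HomotopyCategory.quasiIso B _
    ((HomotopyCategory.quotient _ _).map ((L.mapHomologicalComplex _).map f.hom))
  rw [HomotopyCategory.quotient_map_mem_quasiIso_iff, HomologicalComplex.mem_quasiIso_iff]
  infer_instance

/-- for an exact functor, the right derived functor on `D^+` is the induced functor -/
noncomputable def plusIso : L.rightDerivedFunctorPlus ⋙ DerivedCategory.Plus.ι ≅
    DerivedCategory.Plus.ι ⋙ L.mapDerivedCategory := by
  let uL := L.rightDerivedFunctorPlusUnit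
  haveI : IsIso uL := Functor.isIso_of_isRightDerivedFunctor_of_inverts _ uL (inverts_plus L)
  let e : DerivedCategory.Plus.Qh ⋙ (L.rightDerivedFunctorPlus ⋙ DerivedCategory.Plus.ι) ≅
      DerivedCategory.Plus.Qh ⋙ (DerivedCategory.Plus.ι ⋙ L.mapDerivedCategory) :=
    (Functor.associator _ _ _).symm ≪≫
      Functor.isoWhiskerRight (asIso uL).symm DerivedCategory.Plus.ι ≪≫
      (Iso.refl _ : (L.mapHomotopyCategoryPlus ⋙ DerivedCategory.Plus.Qh) ⋙
          DerivedCategory.Plus.ι ≅
        HomotopyCategory.Plus.ι A ⋙ (L.mapHomotopyCategory (ComplexShape.up ℤ) ⋙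
          DerivedCategory.Qh)) ≪≫
      Functor.isoWhiskerLeft (HomotopyCategory.Plus.ι A) L.mapDerivedCategoryFactorsh.symm ≪≫
      (Iso.refl _ : HomotopyCategory.Plus.ι A ⋙ (DerivedCategory.Qh ⋙ L.mapDerivedCategory) ≅
        DerivedCategory.Plus.Qh ⋙ (DerivedCategory.Plus.ι ⋙ L.mapDerivedCategory))
  haveI : Localization.Lifting DerivedCategory.Plus.Qh (HomotopyCategory.Plus.quasiIso A)
      (DerivedCategory.Plus.Qh ⋙ (L.rightDerivedFunctorPlus ⋙ DerivedCategory.Plus.ι))
      (L.rightDerivedFunctorPlus ⋙ DerivedCategory.Plus.ι) := ⟨Iso.refl _⟩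
  haveI : Localization.Lifting DerivedCategory.Plus.Qh (HomotopyCategory.Plus.quasiIso A)
      (DerivedCategory.Plus.Qh ⋙ (DerivedCategory.Plus.ι ⋙ L.mapDerivedCategory))
      (DerivedCategory.Plus.ι ⋙ L.mapDerivedCategory) := ⟨Iso.refl _⟩
  exact Localization.liftNatIso DerivedCategory.Plus.Qh (HomotopyCategory.Plus.quasiIso A)
    _ _ _ _ e

end PlusIso

attribute [local instance] HasDerivedCategory.standard

open Groth.Agent.Lib.Helper5.ProjF in
/-- `Ri_*` on `D^+` is the restriction of `Ri_*` -/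
noncomputable def thetaCl {Z X : Scheme.{u}} (i : Z ⟶ X) [IsClosedImmersion i]
    [EnoughInjectives Z.Modules] [DCoh.HasRpush i] :
    DCoh.RpushPlus i ⋙ DerivedCategory.Plus.ι ≅ DerivedCategory.Plus.ι ⋙ DCoh.Rpush i :=
  plusIso (Scheme.Modules.pushforward i) ≪≫
    Functor.isoWhiskerLeft DerivedCategory.Plus.ι (rpushIsoMapD i).symm

/-- **`a ≅ R Hom(O_Z, -)` on `D^+_QCoh`** -/
theorem nonempty_iso_closedImm (Z X : Scheme.{u}) [IsNoetherian X] (i : Z ⟶ X)
    [IsClosedImmersion i] [Dual3.HasHomO i] [EnoughInjectives X.Modules]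
    [EnoughInjectives Z.Modules] [DCoh.HasRpush i]
    (hf : DCoh.RpushPreservesQCoh i) (a : DCoh.DQCoh X ⥤ DCoh.DQCoh Z)
    (adj : DCoh.RpushQ i hf ⊣ a)
    (adjP : DCoh.RpushPlus i ⊣ Dual3.RHomOPlus i)
    (hH : ∀ K : DerivedCategory.Plus X.Modules, DCoh.IsQCohD K.obj →
      DCoh.IsQCohD ((Dual3.RHomOPlus i).obj K).obj) :
    Nonempty (Dual3.bddι X ⋙ a ⋙ ObjectProperty.ι _ ≅
      Dual3.bddToPlus X ⋙ Dual3.RHomOPlus i ⋙
        (DerivedCategory.Plus.ι : DerivedCategory.Plus Z.Modules ⥤ DCoh.D Z)) := by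
  obtain ⟨N, hN⟩ := Groth.Agent.Lib.Helper5.BrownU.shriek_bounded_below i hf a adj
  have hA : ∀ K : (Dual3.IsBddBelowQ X).FullSubcategory,
      (DerivedCategory.TStructure.t (C := Z.Modules)).plus (a.obj K.obj).obj := by
    intro K
    obtain ⟨n, hn⟩ := K.property
    haveI : K.obj.obj.IsGE n := hn
    refine ⟨n - 1 - N, ?_⟩
    show DerivedCategory.IsGE (a.obj K.obj).obj (n - 1 - N)
    rw [DerivedCategory.isGE_iff]
    intro m hm
    exact hN K.obj (n - 1)
      (fun j hj => DerivedCategory.isZero_of_isGE K.obj.obj n j (by omega)) m (by omega)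
  exact ⟨natIsoP (Rf := DCoh.Rpush i) (hR := hf) adj adjP (thetaCl i) (Dual3.IsBddBelowQ X) (fun _ h => h) hA
    (fun K => hH _ K.obj.property)⟩

end Groth.Agent.Lib.Helper5.ShriekHom
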