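import Mathlib
import Groth.Prelude.Def_Dual3
import Groth.Agent.Lib.Helper5.ShriekHom.Abstract2
import Groth.Agent.Lib.Helper5.ProjFX.Nat
import Groth.Agent.Lib.Helper5.FMId.UnitNat
import Groth.Agent.Lib.Helper5.FinPC.FinPush
import Groth.Agent.Lib.Helper5.RHomQC.PCLocal
import Groth.Agent.Lib.Helper5.CohTen.LpullLE
import Groth.Agent.Lib.Helper1.FinPush
import Groth.Agent.Lib.Helper1.Dv21

/-!
# `Rf_* ∘ a ≅ RHom(f_* O_Y, -)` for a finite morphism (helper5)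
-/
set_option autoImplicit false
set_option linter.unusedSectionVars false
set_option linter.unusedVariables false
set_option linter.style.haveILetI false
universe u
open CategoryTheory CategoryTheory.Limits AlgebraicGeometry
attribute [local instance] HasDerivedCategory.standard

namespace Groth.Agent.Lib.Helper5.ShriekHom

open Groth.Agent.Lib.Helper5.RHomQC

variable {Y X : Scheme.{u}} (f : Y ⟶ X) [DCoh.HasRpush f] [DCoh.HasLpull f]
  (hf : DCoh.RpushPreservesQCoh f)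

/-- `Lf^*` on `D_QCoh` -/
noncomputable abbrev LQ : DCoh.DQCoh X ⥤ DCoh.DQCoh Y :=
  ObjectProperty.lift _ (ObjectProperty.ι _ ⋙ DCoh.Lpull f)
    (fun K => Groth.Agent.Lib.Helper5.QC.isQCohD_Lpull f K.obj K.property)

/-- `Lf^* ⊣ Rf_*` on `D_QCoh` -/
noncomputable def adjLQ : LQ f ⊣ DCoh.RpushQ f hf :=
  Adjunction.restrictFullyFaithful (Groth.Agent.Lib.Helper5.LpullLib.lpullRpushAdj f)
    (ObjectProperty.fullyFaithfulι _) (ObjectProperty.fullyFaithfulι _) (Iso.refl _) (Iso.refl _)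

/-- `Rf_* Lf^* T ≅ T ⊗^L E` naturally on `D_QCoh`, for `E ≅ Rf_* O_Y` -/
theorem nonempty_mu [QuasiCompact f] [QuasiSeparated f] (E : CochainComplex X.Modules ℤ)
    [DCoh.HasLTensorCx E]
    (hE : Nonempty (DerivedCategory.Q.obj E ≅
      (DCoh.Rpush f).obj (DerivedCategory.Q.obj (OCx Y 0)))) :
    Nonempty ((LQ f ⋙ DCoh.RpushQ f hf) ⋙ ObjectProperty.ι _ ≅
      ObjectProperty.ι _ ⋙ DCoh.LTensorCx E) := by
  haveI : DCoh.HasLTensorCx (OCx Y 0) := Groth.Agent.Lib.Helper5.LTenAll.hasLTensorCx _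
  haveI := Groth.Agent.Helper1.IdealModL.isQuasicoherent_structureModule (X := Y)
  have hO : DCoh.IsQCohD (DerivedCategory.Q.obj (OCx Y 0)) :=
    Groth.Agent.Lib.Helper5.QC.isQCohD_of_iso
      ((DerivedCategory.singleFunctorIsoCompQ Y.Modules 0).app (Coh.structureModule Y))
      (Groth.Agent.Lib.Helper5.RpushClassic.isQCohD_inD (Coh.structureModule Y))
  obtain ⟨ν⟩ := Groth.Agent.Lib.Helper5.ProjFX.nonempty_projFormula_natY f (OCx Y 0) hO E hE
  let ρ := Groth.Agent.Lib.Helper5.FMId.ltensorOIso Y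
  let e0 : (LQ f ⋙ DCoh.RpushQ f hf) ⋙ ObjectProperty.ι _ ≅
      ObjectProperty.ι _ ⋙ DCoh.Lpull f ⋙ DCoh.Rpush f :=
    NatIso.ofComponents (fun T => Iso.refl _) (fun {T T'} u => by
      simp only [Iso.refl_hom, Category.comp_id, Category.id_comp]
      rfl)
  exact ⟨e0 ≪≫ Functor.isoWhiskerLeft _ (Functor.isoWhiskerLeft (DCoh.Lpull f)
    ((Functor.leftUnitor _).symm ≪≫ Functor.isoWhiskerRight ρ.symm (DCoh.Rpush f))) ≪≫ ν⟩

/-- `RHom(E, G) ∈ D_QCoh` for `E` pseudo-coherent and `G ∈ D^+_QCoh` -/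
theorem isQCohD_rhom_of_isGE (E : CochainComplex X.Modules ℤ) [DCoh.HasLTensorCx E]
    [DCoh.HasRSheafHom E] (hEpc : ∀ n : ℤ, DCoh.IsPseudoCoherentD n (DCoh.toD X E))
    (G : DCoh.D X) (hG : DCoh.IsQCohD G) (r : ℤ) [G.IsGE r] :
    DCoh.IsQCohD ((DCoh.RSheafHom E).obj G) := by
  intro j
  exact isQuasicoherent_HD_rhom E (r - j - 1) (hEpc _) G hG r j (by omega)

/-- `(f_* O_Y)[0]` is pseudo-coherent for `f` finite and `X` locally Noetherian -/
theorem isPC_push_structure [IsFinite f] [IsLocallyNoetherian X] (m : ℤ) :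
    DCoh.IsPseudoCoherentD m (DCoh.inD X
      ((Scheme.Modules.pushforward f).obj (Coh.structureModule Y))) := by
  have hc : Coh.IsCoh ((Scheme.Modules.pushforward f).obj (Coh.structureModule Y)) :=
    Groth.Agent.Helper1.FinPush.isCoh_pushforward f _
      (Groth.Agent.Helper1.Dv.isCoh_structureModule Y)
  haveI := hc.1
  exact Groth.Agent.Lib.Helper5.PCCoh.isPC_of_isCoh_HD _
    (Groth.Agent.Lib.Helper5.RpushClassic.isQCohD_inD _) m
    (fun i _ => Groth.Agent.Lib.Helper5.CohTen.isCoh_HD_inD _ hc i) 0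
    (fun i hi => Groth.Agent.Lib.Helper5.PCSingle.isZero_HD_inD _ i (by omega))

/-- **duality for a finite morphism**: `Rf_* ∘ a ≅ RHom(f_* O_Y, -)` on `D^+_QCoh` -/
theorem nonempty_finite_dual [IsFinite f] [IsLocallyNoetherian X]
    (a : DCoh.DQCoh X ⥤ DCoh.DQCoh Y) (adj : DCoh.RpushQ f hf ⊣ a)
    (E : CochainComplex X.Modules ℤ)
    (hE : Nonempty (DCoh.toD X E ≅ DCoh.inD X
      ((Scheme.Modules.pushforward f).obj (Coh.structureModule Y))))
    [DCoh.HasLTensorCx E] [DCoh.HasRSheafHom E] :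
    Nonempty (Dual3.bddι X ⋙ a ⋙ DCoh.RpushQ f hf ⋙ ObjectProperty.ι _ ≅
      Dual3.bddι X ⋙ ObjectProperty.ι _ ⋙ DCoh.RSheafHom E) := by
  obtain ⟨eE⟩ := hE
  haveI := Groth.Agent.Helper1.IdealModL.isQuasicoherent_structureModule (X := Y)
  obtain ⟨e1⟩ := Groth.Agent.Lib.Helper5.FinPush.nonempty_rpush_inD f (Coh.structureModule Y)
  have hE' : Nonempty (DerivedCategory.Q.obj E ≅
      (DCoh.Rpush f).obj (DerivedCategory.Q.obj (OCx Y 0))) :=
    ⟨eE ≪≫ e1.symm ≪≫ (DCoh.Rpush f).mapIso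
      ((DerivedCategory.singleFunctorIsoCompQ Y.Modules 0).app (Coh.structureModule Y))⟩
  obtain ⟨μ⟩ := nonempty_mu f hf E hE'
  have hEpc : ∀ n : ℤ, DCoh.IsPseudoCoherentD n (DCoh.toD X E) := fun n =>
    Groth.Agent.Lib.Helper5.PCTri.isPC_of_iso eE.symm (isPC_push_structure f n)
  have hB : ∀ G : DCoh.DQCoh X, Dual3.IsBddBelowQ X G →
      DCoh.IsQCohD ((DCoh.RSheafHom E).obj G.obj) := by
    rintro G ⟨r, hr⟩
    haveI := hr
    exact isQCohD_rhom_of_isGE E hEpc G.obj G.property r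
  exact ⟨natIso (Dual3.IsBddBelowQ X) ((adjLQ f hf).comp adj) (DCoh.RSheafHomAdj E) μ hB⟩

end Groth.Agent.Lib.Helper5.ShriekHom
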